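import Mathlib

/-!
# Bijectivity passes to localizations away from an element
-/

set_option autoImplicit false
set_option linter.style.haveILetI false

universe u

namespace Groth.Agent.H47.Spread

/-- a ring map between localizations away from `r` and `φ r` compatible with a bijective ring map
`φ` is bijective -/
theorem bijective_of_isLocalization_away {R S R' S' : Type*} [CommRing R] [CommRing S]
    [CommRing R'] [CommRing S'] [Algebra R R'] [Algebra S S'] (φ : R →+* S)
    (hφ : Function.Bijective φ) (r : R) [IsLocalization.Away r R'] [IsLocalization.Away (φ r) S']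
    (ψ : R' →+* S') (hψ : ψ.comp (algebraMap R R') = (algebraMap S S').comp φ) :
    Function.Bijective ψ := by
  let e : R ≃+* S := RingEquiv.ofBijective φ hφ
  have H : Submonoid.map e.toMonoidHom (Submonoid.powers r) = Submonoid.powers (φ r) := by
    rw [Submonoid.map_powers]
    rfl
  let E : R' ≃+* S' := IsLocalization.ringEquivOfRingEquiv R' S' e H
  have hE : ψ = (E : R' →+* S') := by
    apply IsLocalization.ringHom_ext (Submonoid.powers r)
    rw [hψ, IsLocalization.ringEquivOfRingEquiv_eq_map, IsLocalization.map_comp]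
    rfl
  rw [hE]
  exact E.bijective

/-- if the kernel of `φ` is killed by `t` and `φ t` multiplies the target into the image of `φ`,
then `φ` becomes bijective after inverting `t` -/
theorem bijective_away_of_ker_coker {R S R' S' : Type*} [CommRing R] [CommRing S]
    [CommRing R'] [CommRing S'] [Algebra R R'] [Algebra S S'] (φ : R →+* S) (t : R)
    [IsLocalization.Away t R'] [IsLocalization.Away (φ t) S']
    (ha : ∀ b : R, φ b = 0 → t * b = 0) (hb : ∀ s : S, ∃ b : R, φ t * s = φ b)
    (ψ : R' →+* S') (hψ : ψ.comp (algebraMap R R') = (algebraMap S S').comp φ) :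
    Function.Bijective ψ := by
  have hψ' : ∀ a : R, ψ (algebraMap R R' a) = algebraMap S S' (φ a) := fun a =>
    congrArg (fun k : R →+* S' => k a) hψ
  have hu : IsUnit (algebraMap R R' t) := IsLocalization.Away.algebraMap_isUnit t
  have hu' : IsUnit (algebraMap S S' (φ t)) := IsLocalization.Away.algebraMap_isUnit (φ t)
  constructor
  · rw [injective_iff_map_eq_zero]
    intro x hx
    obtain ⟨n, a, hxa⟩ := IsLocalization.Away.surj t x
    have h1 : algebraMap S S' (φ a) = 0 := by
      rw [← hψ', ← hxa, map_mul, hx, zero_mul]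
    obtain ⟨⟨c, k, rfl⟩, hc⟩ := (IsLocalization.map_eq_zero_iff (Submonoid.powers (φ t)) S' _).1 h1
    have h2 : φ (t ^ k * a) = 0 := by
      rw [map_mul, map_pow]
      exact hc
    have h3 : t * (t ^ k * a) = 0 := ha _ h2
    have h4 : algebraMap R R' a = 0 := by
      have h5 : algebraMap R R' t * (algebraMap R R' t ^ k * algebraMap R R' a) = 0 := by
        rw [← map_pow, ← map_mul, ← map_mul, h3, map_zero]
      have h6 := (hu.mul_right_eq_zero).1 h5
      exact ((hu.pow k).mul_right_eq_zero).1 h6
    rw [h4] at hxa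
    exact ((hu.pow n).mul_left_eq_zero).1 hxa
  · intro z
    obtain ⟨n, s, hzs⟩ := IsLocalization.Away.surj (φ t) z
    obtain ⟨b, hb'⟩ := hb s
    obtain ⟨v, hv⟩ := hu
    refine ⟨algebraMap R R' b * ((v⁻¹ : R'ˣ) : R') ^ (n + 1), ?_⟩
    have hv' : ψ ((v⁻¹ : R'ˣ) : R') * algebraMap S S' (φ t) = 1 := by
      rw [← hψ', ← hv, ← map_mul, Units.inv_mul, map_one]
    have h1 : algebraMap S S' (φ b) = z * algebraMap S S' (φ t) ^ (n + 1) := by
      rw [← hb', map_mul, pow_succ, ← mul_assoc, hzs, mul_comm]
    rw [map_mul, map_pow, hψ', h1, mul_assoc, ← mul_pow, mul_comm (algebraMap S S' (φ t)), hv',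
      one_pow, mul_one]

end Groth.Agent.H47.Spread
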