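import Mathlib
import Groth.Agent.H47.Spread.LocBij

/-!
# Over an affine base, `Γ(Z) ≅ Γ(W)` implies `O_Z ≅ g_* O_W` for `g : W ⟶ Z` qcqs
-/

set_option autoImplicit false
set_option linter.style.haveILetI false

universe u

namespace Groth.Agent.H47.Spread

open AlgebraicGeometry CategoryTheory

variable {W Z : Scheme.{u}}

theorem isIso_app_basicOpen (g : W ⟶ Z) [IsAffine Z] [QuasiCompact g] [QuasiSeparated g]
    (hg : IsIso g.appTop) (r : Γ(Z, ⊤)) : IsIso (g.app (Z.basicOpen r)) := by
  haveI : CompactSpace W := QuasiCompact.compactSpace_of_compactSpace g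
  haveI : QuasiSeparatedSpace W := quasiSeparatedSpace_of_quasiSeparated g
  have hcomp : IsCompact (⊤ : W.Opens).carrier := isCompact_univ
  have hqs : IsQuasiSeparated (⊤ : W.Opens).carrier := isQuasiSeparated_univ
  haveI instL : IsLocalization.Away r Γ(Z, Z.basicOpen r) :=
    (isAffineOpen_top Z).isLocalization_basicOpen r
  haveI instR : IsLocalization.Away ((g.appTop).hom r) Γ(W, W.basicOpen ((g.appTop).hom r)) :=
    isLocalization_basicOpen_of_qcqs hcomp hqs _
  have e : g ⁻¹ᵁ Z.basicOpen r = W.basicOpen ((g.appTop).hom r) := Scheme.preimage_basicOpen g r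
  let ψ : Γ(Z, Z.basicOpen r) ⟶ Γ(W, W.basicOpen ((g.appTop).hom r)) :=
    g.app (Z.basicOpen r) ≫ W.presheaf.map (eqToHom e.symm).op
  have hbij : Function.Bijective ψ.hom := by
    refine bijective_of_isLocalization_away (g.appTop).hom
      ((ConcreteCategory.isIso_iff_bijective _).1 hg) r ψ.hom ?_
    rw [RingHom.algebraMap_toAlgebra, RingHom.algebraMap_toAlgebra, ← CommRingCat.hom_comp,
      ← CommRingCat.hom_comp]
    congr 1
    dsimp only [ψ]
    rw [← Category.assoc, g.naturality, Category.assoc, ← Functor.map_comp]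
    rfl
  haveI : IsIso ψ := (ConcreteCategory.isIso_iff_bijective _).2 hbij
  exact IsIso.of_isIso_comp_right (g.app (Z.basicOpen r)) (W.presheaf.map (eqToHom e.symm).op)

/-- if `g : W ⟶ Z` is qcqs, `Z` is affine and `Γ(Z) → Γ(W)` is an isomorphism, then
`O_Z(V) → O_W(g⁻¹V)` is an isomorphism for all opens `V` -/
theorem isIso_app_of_isIso_appTop (g : W ⟶ Z) [IsAffine Z] [QuasiCompact g] [QuasiSeparated g]
    (hg : IsIso g.appTop) (V : Z.Opens) : IsIso (g.app V) := by
  let φ : Z.sheaf ⟶ (TopCat.Sheaf.pushforward CommRingCat g.base).obj W.sheaf := ⟨g.c⟩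
  have hφ : IsIso φ := by
    refine TopCat.Sheaf.isIso_iff_isIso_basis (B := fun r : Γ(Z, ⊤) => Z.basicOpen r) ?_ ?_
    · exact isBasis_basicOpen Z
    · intro r
      exact isIso_app_basicOpen g hg r
  have h2 : IsIso ((TopCat.Sheaf.forget CommRingCat Z).map φ) := inferInstance
  exact NatIso.isIso_app_of_isIso ((TopCat.Sheaf.forget CommRingCat Z).map φ) (Opposite.op V)

end Groth.Agent.H47.Spread
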