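import Mathlib

/-!
# A finitely generated submodule whose elements are each killed by an element of a submonoid is
killed by a single element of the submonoid
-/

set_option autoImplicit false
set_option linter.style.haveILetI false

universe u

namespace Groth.Agent.H47.Spread

theorem exists_smul_eq_zero_of_fg {R M : Type*} [CommRing R] [AddCommGroup M] [Module R M]
    (T : Submonoid R) (N : Submodule R M) (hN : N.FG)
    (h : ∀ n ∈ N, ∃ t ∈ T, t • n = 0) : ∃ t ∈ T, ∀ n ∈ N, t • n = 0 := by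
  revert h
  refine Submodule.fg_induction
    (motive := fun N _ => (∀ n ∈ N, ∃ t ∈ T, t • n = 0) → ∃ t ∈ T, ∀ n ∈ N, t • n = 0) ?_ ?_ N hN
  · intro x hx
    obtain ⟨t, ht, htx⟩ := hx x (Submodule.mem_span_singleton_self x)
    refine ⟨t, ht, ?_⟩
    intro n hn
    obtain ⟨r, rfl⟩ := Submodule.mem_span_singleton.1 hn
    rw [smul_comm, htx, smul_zero]
  · intro M₁ M₂ _ _ h₁ h₂ h
    obtain ⟨t₁, ht₁, h₁'⟩ := h₁ fun n hn => h n (Submodule.mem_sup_left hn)
    obtain ⟨t₂, ht₂, h₂'⟩ := h₂ fun n hn => h n (Submodule.mem_sup_right hn)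
    refine ⟨t₁ * t₂, T.mul_mem ht₁ ht₂, ?_⟩
    intro n hn
    obtain ⟨n₁, hn₁, n₂, hn₂, rfl⟩ := Submodule.mem_sup.1 hn
    rw [smul_add, mul_smul, smul_comm, h₁' n₁ hn₁, smul_zero, mul_smul, h₂' n₂ hn₂, smul_zero,
      add_zero]

end Groth.Agent.H47.Spread
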