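import Mathlib

/-!
# Geometric connectedness of a fibre from geometric connectedness over a neighbourhood
-/

set_option autoImplicit false
set_option linter.style.haveILetI false

universe u

namespace Groth.Agent.H47.Spread

open AlgebraicGeometry CategoryTheory Limits

variable {X Y : Scheme.{u}}

/-- the fibre of `f` at a point `y ∈ U` is a base change of `f ∣_ U` -/
theorem exists_isPullback_fiber_morphismRestrict (f : X ⟶ Y) (U : Y.Opens) (y : Y) (hy : y ∈ U) :
    ∃ (a : f.fiber y ⟶ (f ⁻¹ᵁ U).toScheme) (j : Spec (Y.residueField y) ⟶ U.toScheme),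
      IsPullback a (f.fiberToSpecResidueField y) (f ∣_ U) j := by
  have hj : Set.range (Y.fromSpecResidueField y) ⊆ Set.range U.ι := by
    rw [Scheme.range_fromSpecResidueField, Scheme.Opens.range_ι]
    exact Set.singleton_subset_iff.2 hy
  have ha : Set.range (f.fiberι y) ⊆ Set.range (f ⁻¹ᵁ U).ι := by
    rw [Scheme.Hom.range_fiberι, Scheme.Opens.range_ι]
    intro x hx
    change f x ∈ U
    rw [show f x = y from hx]
    exact hy
  let j := IsOpenImmersion.lift U.ι (Y.fromSpecResidueField y) hj
  let a := IsOpenImmersion.lift (f ⁻¹ᵁ U).ι (f.fiberι y) ha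
  have hjfac : j ≫ U.ι = Y.fromSpecResidueField y := IsOpenImmersion.lift_fac _ _ hj
  have hafac : a ≫ (f ⁻¹ᵁ U).ι = f.fiberι y := IsOpenImmersion.lift_fac _ _ ha
  refine ⟨a, j, ?_⟩
  refine IsPullback.of_right (h₁₂ := (f ⁻¹ᵁ U).ι) (h₂₂ := U.ι) (v₁₃ := f) ?_ ?_
    (isPullback_morphismRestrict f U).flip
  · rw [hafac, hjfac]
    exact IsPullback.of_hasPullback f (Y.fromSpecResidueField y)
  · rw [← cancel_mono U.ι, Category.assoc, Category.assoc, morphismRestrict_ι, ← Category.assoc,
      hafac, hjfac, Scheme.Hom.fiber_fac]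

/-- if `f ∣_ U` is geometrically connected and `y ∈ U` then the fibre of `f` at `y` is
geometrically connected over the residue field -/
theorem geometricallyConnected_fiber_of_morphismRestrict (f : X ⟶ Y) (U : Y.Opens) (y : Y)
    (hy : y ∈ U) [GeometricallyConnected (f ∣_ U)] :
    GeometricallyConnected (f.fiberToSpecResidueField y) := by
  obtain ⟨a, j, h⟩ := exists_isPullback_fiber_morphismRestrict f U y hy
  exact MorphismProperty.of_isPullback (P := @GeometricallyConnected) h inferInstance

end Groth.Agent.H47.Spread
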