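import Mathlib
import Groth.Agent.H47.Spread.AffBase

/-!
# If `O_Y(U) ≅ O_X(f⁻¹U)` for an affine open `U` then the same holds for all opens inside `U`
-/

set_option autoImplicit false
set_option linter.style.haveILetI false

universe u

namespace Groth.Agent.H47.Spread

open AlgebraicGeometry CategoryTheory

variable {X Y : Scheme.{u}}

theorem isIso_app_of_le_of_morphismRestrict (f : X ⟶ Y) (U : Y.Opens)
    (h : ∀ V' : U.toScheme.Opens, IsIso ((f ∣_ U).app V')) (V : Y.Opens) (hV : V ≤ U) :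
    IsIso (f.app V) := by
  have h1 := h (U.ι ⁻¹ᵁ V)
  rw [morphismRestrict_app] at h1
  have h2 : IsIso (f.app (U.ι ''ᵁ U.ι ⁻¹ᵁ V)) :=
    @IsIso.of_isIso_comp_right _ _ _ _ _ (f.app (U.ι ''ᵁ U.ι ⁻¹ᵁ V))
      (X.presheaf.map (eqToHom (image_morphismRestrict_preimage f U (U.ι ⁻¹ᵁ V))).op)
      inferInstance h1
  have e : U.ι ''ᵁ U.ι ⁻¹ᵁ V = V := by
    rw [Scheme.Hom.image_preimage_eq_opensRange_inf, Scheme.Opens.opensRange_ι]
    exact inf_eq_right.2 hV
  exact e ▸ h2

/-- if `f` is qcqs, `U` is an affine open of `Y` and `O_Y(U) → O_X(f⁻¹U)` is an isomorphism, then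
`O_Y(V) → O_X(f⁻¹V)` is an isomorphism for every open `V ⊆ U` -/
theorem isIso_app_of_le_of_isAffineOpen (f : X ⟶ Y) [QuasiCompact f] [QuasiSeparated f]
    (U : Y.Opens) (hU : IsAffineOpen U) (hfU : IsIso (f.app U)) (V : Y.Opens) (hV : V ≤ U) :
    IsIso (f.app V) := by
  haveI : IsAffine U.toScheme := hU
  apply isIso_app_of_le_of_morphismRestrict f U ?_ V hV
  intro V'
  apply isIso_app_of_isIso_appTop
  have e : U.ι ''ᵁ ⊤ = U := by
    rw [Scheme.Hom.image_top_eq_opensRange, Scheme.Opens.opensRange_ι]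
  have key : IsIso (f.app (U.ι ''ᵁ ⊤) ≫
      X.presheaf.map (eqToHom (image_morphismRestrict_preimage f U ⊤)).op) := by
    haveI : IsIso (f.app (U.ι ''ᵁ ⊤)) := e.symm ▸ hfU
    infer_instance
  rw [morphismRestrict_appTop]
  exact key

end Groth.Agent.H47.Spread
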