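import Mathlib
import Groth.Agent.H47.Spread.Restrict

/-!
# Spreading out: if kernel and cokernel of `O_Y(V₀) → O_X(f⁻¹V₀)` die at `y`, then
`O_Y → f_* O_X` is an isomorphism near `y`
-/

set_option autoImplicit false
set_option linter.style.haveILetI false

universe u

namespace Groth.Agent.H47.Spread

open AlgebraicGeometry CategoryTheory

variable {X Y : Scheme.{u}}

/-- if `t` kills the kernel and `f^♯ t` multiplies the target into the image of
`f^♯ : O_Y(V₀) → O_X(f⁻¹V₀)`, then `O_Y(D(t)) → O_X(f⁻¹D(t))` is an isomorphism -/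
theorem isIso_app_basicOpen_of_ker_coker (f : X ⟶ Y) [QuasiCompact f] [QuasiSeparated f]
    {V₀ : Y.Opens} (hV₀ : IsAffineOpen V₀) (t : Γ(Y, V₀))
    (ha : ∀ b : Γ(Y, V₀), (f.app V₀).hom b = 0 → t * b = 0)
    (hb : ∀ s : Γ(X, f ⁻¹ᵁ V₀), ∃ b : Γ(Y, V₀), (f.app V₀).hom t * s = (f.app V₀).hom b) :
    IsIso (f.app (Y.basicOpen t)) := by
  have hcomp : IsCompact (f ⁻¹ᵁ V₀).carrier := f.isCompact_preimage hV₀.isCompact
  have hqs : IsQuasiSeparated (f ⁻¹ᵁ V₀).carrier := f.isQuasiSeparated_preimage hV₀.isQuasiSeparated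
  haveI instL : IsLocalization.Away t Γ(Y, Y.basicOpen t) := hV₀.isLocalization_basicOpen t
  haveI instR : IsLocalization.Away ((f.app V₀).hom t) Γ(X, X.basicOpen ((f.app V₀).hom t)) :=
    isLocalization_basicOpen_of_qcqs hcomp hqs _
  have e : f ⁻¹ᵁ Y.basicOpen t = X.basicOpen ((f.app V₀).hom t) := Scheme.preimage_basicOpen f t
  let ψ : Γ(Y, Y.basicOpen t) ⟶ Γ(X, X.basicOpen ((f.app V₀).hom t)) :=
    f.app (Y.basicOpen t) ≫ X.presheaf.map (eqToHom e.symm).op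
  have hbij : Function.Bijective ψ.hom := by
    refine bijective_away_of_ker_coker (f.app V₀).hom t ha hb ψ.hom ?_
    rw [RingHom.algebraMap_toAlgebra, RingHom.algebraMap_toAlgebra, ← CommRingCat.hom_comp,
      ← CommRingCat.hom_comp]
    congr 1
    dsimp only [ψ]
    rw [← Category.assoc, f.naturality, Category.assoc, ← Functor.map_comp]
    rfl
  haveI : IsIso ψ := (ConcreteCategory.isIso_iff_bijective _).2 hbij
  exact IsIso.of_isIso_comp_right (f.app (Y.basicOpen t)) (X.presheaf.map (eqToHom e.symm).op)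

/-- **Spreading out.** If the kernel of `O_Y(V₀) → O_X(f⁻¹V₀)` is killed by some `t₁` invertible at
`y`, and some `t₂` invertible at `y` multiplies `O_X(f⁻¹V₀)` into the image, then `O_Y → f_* O_X` is
an isomorphism over a neighbourhood of `y`. -/
theorem exists_open_isIso_app (f : X ⟶ Y) [QuasiCompact f] [QuasiSeparated f]
    {V₀ : Y.Opens} (hV₀ : IsAffineOpen V₀) (y : Y)
    (hker : ∃ t₁ : Γ(Y, V₀), y ∈ Y.basicOpen t₁ ∧
      ∀ b : Γ(Y, V₀), (f.app V₀).hom b = 0 → t₁ * b = 0)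
    (hcoker : ∃ t₂ : Γ(Y, V₀), y ∈ Y.basicOpen t₂ ∧
      ∀ s : Γ(X, f ⁻¹ᵁ V₀), ∃ b : Γ(Y, V₀), (f.app V₀).hom t₂ * s = (f.app V₀).hom b) :
    ∃ U : Y.Opens, y ∈ U ∧ ∀ V : Y.Opens, V ≤ U → IsIso (f.app V) := by
  obtain ⟨t₁, hy₁, h₁⟩ := hker
  obtain ⟨t₂, hy₂, h₂⟩ := hcoker
  refine ⟨Y.basicOpen (t₁ * t₂), ?_, ?_⟩
  · rw [Scheme.basicOpen_mul]
    exact ⟨hy₁, hy₂⟩
  · have hiso : IsIso (f.app (Y.basicOpen (t₁ * t₂))) := by
      apply isIso_app_basicOpen_of_ker_coker f hV₀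
      · intro b hb
        rw [mul_comm t₁ t₂, mul_assoc, h₁ b hb, mul_zero]
      · intro s
        obtain ⟨b, hb⟩ := h₂ s
        refine ⟨t₁ * b, ?_⟩
        rw [map_mul, map_mul, mul_assoc, hb]
    exact isIso_app_of_le_of_isAffineOpen f _ (hV₀.basicOpen _) hiso

end Groth.Agent.H47.Spread
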