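import Mathlib
import Groth.Agent.H47.Spread.Spreading
import Groth.Agent.H47.Spread.FGKill

/-!
# Spreading out for finite `O_Y(V₀) → O_X(f⁻¹V₀)`: pointwise vanishing of kernel and cokernel at `y`
gives an isomorphism `O_Y ≅ f_* O_X` near `y`
-/

set_option autoImplicit false
set_option linter.style.haveILetI false

universe u

namespace Groth.Agent.H47.Spread

open AlgebraicGeometry CategoryTheory

variable {X Y : Scheme.{u}}

/-- the sections over an affine open which are invertible at `y` -/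
def unitsAt {V₀ : Y.Opens} (y : Y) (hy : y ∈ V₀) : Submonoid Γ(Y, V₀) where
  carrier := {t | y ∈ Y.basicOpen t}
  one_mem' := by
    change y ∈ Y.basicOpen (1 : Γ(Y, V₀))
    rw [Scheme.basicOpen_of_isUnit Y isUnit_one]
    exact hy
  mul_mem' := by
    intro a b ha hb
    change y ∈ Y.basicOpen (a * b)
    rw [Scheme.basicOpen_mul]
    exact ⟨ha, hb⟩

/-- **Spreading out, finite form.** Let `f : X ⟶ Y` be qcqs, `V₀` an affine open of `Y` with
Noetherian coordinate ring such that `O_Y(V₀) → O_X(f⁻¹V₀)` is finite, and `y ∈ V₀`. If every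
element of the kernel is killed by a section invertible at `y`, and every element of the target is
multiplied into the image by a section invertible at `y`, then `O_Y(V) → O_X(f⁻¹V)` is an isomorphism
for all opens `V` in a neighbourhood of `y`. -/
theorem exists_open_isIso_app_of_finite (f : X ⟶ Y) [QuasiCompact f] [QuasiSeparated f]
    {V₀ : Y.Opens} (hV₀ : IsAffineOpen V₀) (y : Y) (hy : y ∈ V₀) [IsNoetherianRing Γ(Y, V₀)]
    (hfin : (f.app V₀).hom.Finite)
    (hinj : ∀ b : Γ(Y, V₀), (f.app V₀).hom b = 0 → ∃ t : Γ(Y, V₀), y ∈ Y.basicOpen t ∧ t * b = 0)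
    (hsurj : ∀ s : Γ(X, f ⁻¹ᵁ V₀), ∃ t b : Γ(Y, V₀), y ∈ Y.basicOpen t ∧
      (f.app V₀).hom t * s = (f.app V₀).hom b) :
    ∃ U : Y.Opens, y ∈ U ∧ ∀ V : Y.Opens, V ≤ U → IsIso (f.app V) := by
  letI : Algebra Γ(Y, V₀) Γ(X, f ⁻¹ᵁ V₀) := (f.app V₀).hom.toAlgebra
  haveI : Module.Finite Γ(Y, V₀) Γ(X, f ⁻¹ᵁ V₀) := hfin
  apply exists_open_isIso_app f hV₀ y
  · -- kernel
    have hfg : (RingHom.ker (f.app V₀).hom : Submodule Γ(Y, V₀) Γ(Y, V₀)).FG :=
      (isNoetherianRing_iff_ideal_fg _).1 inferInstance _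
    obtain ⟨t, ht, h⟩ := exists_smul_eq_zero_of_fg (unitsAt y hy) _ hfg (by
      intro b hb
      obtain ⟨t, ht, htb⟩ := hinj b hb
      exact ⟨t, ht, htb⟩)
    exact ⟨t, ht, fun b hb => h b hb⟩
  · -- cokernel
    let R := LinearMap.range (Algebra.linearMap Γ(Y, V₀) Γ(X, f ⁻¹ᵁ V₀))
    have hfg : (⊤ : Submodule Γ(Y, V₀) (Γ(X, f ⁻¹ᵁ V₀) ⧸ R)).FG := Module.Finite.fg_top
    obtain ⟨t, ht, h⟩ := exists_smul_eq_zero_of_fg (unitsAt y hy) _ hfg (by
      intro n _
      obtain ⟨s, rfl⟩ := Submodule.Quotient.mk_surjective R n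
      obtain ⟨t, b, ht, htb⟩ := hsurj s
      refine ⟨t, ht, ?_⟩
      rw [← Submodule.Quotient.mk_smul, Submodule.Quotient.mk_eq_zero]
      refine ⟨b, ?_⟩
      rw [Algebra.linearMap_apply, Algebra.smul_def]
      exact htb.symm)
    refine ⟨t, ht, fun s => ?_⟩
    have h1 := h (Submodule.Quotient.mk s) trivial
    rw [← Submodule.Quotient.mk_smul, Submodule.Quotient.mk_eq_zero] at h1
    obtain ⟨b, hb⟩ := h1
    refine ⟨b, ?_⟩
    rw [Algebra.linearMap_apply, Algebra.smul_def] at hb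
    exact hb.symm

end Groth.Agent.H47.Spread
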