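import Mathlib
import Groth.Prelude.Def_ega3
import Groth.Agent.H47.Unibr.Scheme
import Groth.Agent.H47.Spread.SpreadFinite
import Groth.Agent.H47.Spread.GeomConnFibre

/-!
# Assembly of S4480 from finiteness of `f_* O_X` and Zariski's connectedness theorem
-/

set_option autoImplicit false
set_option linter.style.haveILetI false
set_option linter.unusedSectionVars false
set_option linter.unusedVariables false

universe u

namespace Groth.Agent.H47.Spread

open AlgebraicGeometry CategoryTheory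

variable {X Y : Scheme.{u}} [IsIntegral X]

/-- compatibility of `stalkToFunctionField` with germs -/
theorem stalkToFunctionField_germ_eq (f : X ⟶ Y) (y : Y) (h : f.base (genericPoint X) ⤳ y)
    {V₀ : Y.Opens} (hy : y ∈ V₀) (b : Γ(Y, V₀)) :
    CohIII.stalkToFunctionField f y h (Y.presheaf.germ V₀ y hy b) =
      X.presheaf.germ (f ⁻¹ᵁ V₀) (genericPoint X) (h.mem_open V₀.2 hy) ((f.app V₀).hom b) := by
  have h1 := Y.presheaf.germ_stalkSpecializes hy h
  have h2 := congrArg (fun k => k.hom b) h1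
  simp only [CommRingCat.hom_comp, RingHom.comp_apply] at h2
  simp only [CohIII.stalkToFunctionField, RingHom.comp_apply]
  rw [h2]
  exact Scheme.Hom.germ_stalkMap_apply f V₀ (genericPoint X) (h.mem_open V₀.2 hy) b

/-- if the integral closure of `O_{Y,y}` in `R(X)` is `O_{Y,y}`, every section of `O_X` over
`f⁻¹V₀` integral over `O_Y(V₀)` is, up to a factor invertible at `y`, in the image of `O_Y(V₀)` -/
theorem exists_mul_eq_of_integralClosureStalk_eq_range (f : X ⟶ Y) (y : Y)
    (h : f.base (genericPoint X) ⤳ y) {V₀ : Y.Opens} (hV₀ : IsAffineOpen V₀) (hy : y ∈ V₀)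
    (hC : CohIII.integralClosureStalk f y h = (CohIII.stalkToFunctionField f y h).range)
    (s : Γ(X, f ⁻¹ᵁ V₀)) (hs : (f.app V₀).hom.IsIntegralElem s) :
    ∃ t b : Γ(Y, V₀), y ∈ Y.basicOpen t ∧ (f.app V₀).hom t * s = (f.app V₀).hom b := by
  have hξ : genericPoint X ∈ f ⁻¹ᵁ V₀ := h.mem_open V₀.2 hy
  let ψ : Γ(X, f ⁻¹ᵁ V₀) →+* X.functionField := (X.presheaf.germ (f ⁻¹ᵁ V₀) (genericPoint X) hξ).hom
  have hψinj : Function.Injective ψ := germ_injective_of_isIntegral X (genericPoint X) hξ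
  have hcompat : ∀ b : Γ(Y, V₀), CohIII.stalkToFunctionField f y h (Y.presheaf.germ V₀ y hy b) =
      ψ ((f.app V₀).hom b) := fun b => stalkToFunctionField_germ_eq f y h hy b
  -- `ψ s` is integral over the stalk
  have hmem : ψ s ∈ CohIII.integralClosureStalk f y h := by
    obtain ⟨P, hPmonic, hP⟩ := hs
    letI : Algebra (Y.presheaf.stalk y) X.functionField :=
      (CohIII.stalkToFunctionField f y h).toAlgebra
    change IsIntegral (Y.presheaf.stalk y) (ψ s)
    refine ⟨P.map (Y.presheaf.germ V₀ y hy).hom, hPmonic.map _, ?_⟩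
    have hcomp : (CohIII.stalkToFunctionField f y h).comp (Y.presheaf.germ V₀ y hy).hom =
        ψ.comp (f.app V₀).hom := RingHom.ext hcompat
    rw [Polynomial.eval₂_map, RingHom.algebraMap_toAlgebra, hcomp, ← Polynomial.hom_eval₂, hP,
      map_zero]
  rw [hC] at hmem
  obtain ⟨o, ho⟩ := hmem
  letI := TopCat.Presheaf.algebra_section_stalk Y.presheaf (⟨y, hy⟩ : V₀)
  haveI := hV₀.isLocalization_stalk ⟨y, hy⟩
  obtain ⟨⟨b, t⟩, hbt⟩ := IsLocalization.surj (hV₀.primeIdealOf ⟨y, hy⟩).asIdeal.primeCompl o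
  have hbt' : o * Y.presheaf.germ V₀ y hy t.1 = Y.presheaf.germ V₀ y hy b := hbt
  refine ⟨t.1, b, ?_, ?_⟩
  · rw [Scheme.mem_basicOpen Y t.1 y hy]
    have ht : t.1 ∉ (hV₀.primeIdealOf ⟨y, hy⟩).asIdeal := t.2
    have hmem : ∀ r : Γ(Y, V₀), r ∈ (hV₀.primeIdealOf ⟨y, hy⟩).asIdeal ↔
        Y.presheaf.germ V₀ y hy r ∈ IsLocalRing.maximalIdeal (Y.presheaf.stalk y) := by
      intro r
      rw [hV₀.primeIdealOf_eq_map_closedPoint]
      rfl
    rw [hmem] at ht
    by_contra hnu
    exact ht hnu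
  · apply hψinj
    rw [map_mul, ← hcompat, ← hcompat, ← ho, ← map_mul, mul_comm, hbt']

/-- for a dominant morphism of integral schemes, `O_Y(V₀) → O_X(f⁻¹V₀)` is injective -/
theorem app_injective_of_specializes [IsIntegral Y] (f : X ⟶ Y)
    (hdom : f.base (genericPoint X) ⤳ genericPoint Y) (y : Y) {V₀ : Y.Opens} (hy : y ∈ V₀) :
    Function.Injective (f.app V₀).hom := by
  have h : f.base (genericPoint X) ⤳ y := hdom.trans (genericPoint_specializes y)
  rw [injective_iff_map_eq_zero]
  intro b hb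
  have h1 : CohIII.stalkToFunctionField f y h (Y.presheaf.germ V₀ y hy b) = 0 := by
    rw [stalkToFunctionField_germ_eq f y h hy b, hb, map_zero]
  rw [Groth.Agent.H47.Unibr.stalkToFunctionField_eq_comp f hdom y h, RingHom.comp_apply] at h1
  have h2 : algebraMap (Y.presheaf.stalk y) Y.functionField (Y.presheaf.germ V₀ y hy b) = 0 :=
    (map_eq_zero_iff _ (CohIII.stalkToFunctionField f (genericPoint Y) hdom).injective).1 h1
  have h3 : Y.presheaf.germ V₀ y hy b = 0 :=
    (map_eq_zero_iff _ (IsFractionRing.injective (Y.presheaf.stalk y) Y.functionField)).1 h2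
  exact (map_eq_zero_iff _ (germ_injective_of_isIntegral Y y hy)).1 h3

/-- sections of `f ∣_ U` are isomorphisms if those of `f` over opens inside `U` are -/
theorem isIso_morphismRestrict_app_of_forall_le (f : X ⟶ Y) (U : Y.Opens)
    (h : ∀ V : Y.Opens, V ≤ U → IsIso (f.app V)) (V' : U.toScheme.Opens) :
    IsIso ((f ∣_ U).app V') := by
  have hle : U.ι ''ᵁ V' ≤ U := by
    rintro _ ⟨x, -, rfl⟩
    exact x.2
  have key : IsIso (f.app (U.ι ''ᵁ V') ≫
      X.presheaf.map (eqToHom (image_morphismRestrict_preimage f U V')).op) := by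
    haveI : IsIso (f.app (U.ι ''ᵁ V')) := h _ hle
    infer_instance
  rw [morphismRestrict_app]
  exact key

/-- **S4480 assembled** from finiteness of `O_Y(V₀) → O_X(f⁻¹V₀)` over affine opens and Zariski's
connectedness theorem for restrictions of `f`. -/
theorem row4480 [IsIntegral Y] [IsLocallyNoetherian Y] (f : X ⟶ Y) [IsProper f]
    (hdom : f.base (genericPoint X) ⤳ genericPoint Y)
    (halg : ∀ x : X.functionField,
      (∃ q : Polynomial Y.functionField, q ≠ 0 ∧
        Polynomial.eval₂ (CohIII.stalkToFunctionField f (genericPoint Y) hdom) x q = 0) →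
      x ∈ Set.range (CohIII.stalkToFunctionField f (genericPoint Y) hdom))
    (y : Y) (hy : IsIntegrallyClosed (Y.presheaf.stalk y))
    (hA1 : ∀ V₀ : Y.Opens, IsAffineOpen V₀ → (f.app V₀).hom.Finite)
    (hZC : ∀ U : Y.Opens, (∀ V' : U.toScheme.Opens, IsIso ((f ∣_ U).app V')) →
      GeometricallyConnected (f ∣_ U)) :
    GeometricallyConnected (f.fiberToSpecResidueField y) ∧
      ∃ U : Y.Opens, y ∈ U ∧ ∀ V : Y.Opens, V ≤ U → IsIso (f.app V) := by
  have h : f.base (genericPoint X) ⤳ y := hdom.trans (genericPoint_specializes y)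
  obtain ⟨V₀, hV₀, hyV₀, -⟩ := TopologicalSpace.Opens.isBasis_iff_nbhd.mp Y.isBasis_affineOpens
    (show y ∈ (⊤ : Y.Opens) from trivial)
  haveI : IsNoetherianRing Γ(Y, V₀) := IsLocallyNoetherian.component_noetherian ⟨V₀, hV₀⟩
  have hC := Groth.Agent.H47.Unibr.integralClosureStalk_eq_range f hdom halg y hy h
  have hinjφ := app_injective_of_specializes f hdom y hyV₀
  obtain ⟨U, hyU, hU⟩ := exists_open_isIso_app_of_finite f hV₀ y hyV₀ (hA1 V₀ hV₀)
    (fun b hb => ⟨1, by
      rw [Scheme.basicOpen_of_isUnit Y isUnit_one]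
      exact hyV₀, by
      rw [one_mul]
      exact (map_eq_zero_iff _ hinjφ).1 hb⟩)
    (fun s => exists_mul_eq_of_integralClosureStalk_eq_range f y h hV₀ hyV₀ hC s
      ((hA1 V₀ hV₀).to_isIntegral s))
  haveI : GeometricallyConnected (f ∣_ U) :=
    hZC U (isIso_morphismRestrict_app_of_forall_le f U hU)
  exact ⟨geometricallyConnected_fiber_of_morphismRestrict f U y hyU, U, hyU, hU⟩

end Groth.Agent.H47.Spread
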